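import Mathlib
import Cfsg.Prelude.Def_JComponents
import Cfsg.Agent.S2947
import Cfsg.Agent.Lib.Helper11.ThompsonOf
import Cfsg.Agent.Lib.Helper97.KS12.S2948Core
import Cfsg.Agent.Lib.Helper21.SE
import Cfsg.Agent.Lib.Helper49.SE2
import Cfsg.Agent.Lib.Helper4.StrongEmb
import Cfsg.Agent.Lib.Helper55.JComp

/-!
# KS12 package V3 (for S2951 / S2952)

* `straddling_nonempty` : under the standing hypotheses, a 2-local `L ∈ jOvergroups S` containing
  `N_G(J(S))` has a straddling 2-subgroup (otherwise `L` is strongly embedded by S2947, all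
  involutions of `L` are `L`-conjugate, so they all lie in `O₂(L)`, whence `J(S) ≤ O₂(L)`).
* `maxStraddling_nonempty` : lexicographically maximal straddling subgroups exist.
* `straddling_map_cj`, `maxStraddling_map_cj` : invariance under conjugation by elements of `M`.
* `exists_conj_le_of_isSylowTwoIn` : Sylow conjugation inside `M` in the `IsSylowTwoIn` language.
-/

set_option autoImplicit false

namespace Cfsg.Agent.Lib.Helper96.KS12

open Cfsg Cfsg.Agent.Lib.Helper11

universe u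

variable {G : Type u} [Group G]

/-! ### conjugation invariance of the three numerical invariants -/

theorem maxElemAbelianOrder_map_cj [Finite G] (T : Subgroup G) (g : G) :
    maxElemAbelianOrder (T.map (MulAut.conj g).toMonoidHom) = maxElemAbelianOrder T := by
  obtain ⟨A, hA⟩ := maxElemAbIn_nonempty 2 T
  have hA' : A.map (MulAut.conj g).toMonoidHom ∈
      maxElemAbIn 2 (T.map (MulAut.conj g).toMonoidHom) := by
    rw [maxElemAbIn_map 2 _ (MulAut.conj g).injective]
    exact ⟨A, hA, rfl⟩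
  rw [Cfsg.Agent.Lib.Helper97.KS12.maxElemAbelianOrder_eq hA,
    Cfsg.Agent.Lib.Helper97.KS12.maxElemAbelianOrder_eq hA',
    Subgroup.card_map_of_injective (MulAut.conj g).injective]

theorem thompsonSubgroupOf_map_cj (T : Subgroup G) (g : G) :
    thompsonSubgroupOf 2 (T.map (MulAut.conj g).toMonoidHom) =
      (thompsonSubgroupOf 2 T).map (MulAut.conj g).toMonoidHom :=
  thompsonSubgroupOf_map 2 _ (MulAut.conj g).injective T

theorem card_thompson_map_cj (T : Subgroup G) (g : G) :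
    Nat.card ↥(thompsonSubgroupOf 2 (T.map (MulAut.conj g).toMonoidHom)) =
      Nat.card ↥(thompsonSubgroupOf 2 T) := by
  rw [thompsonSubgroupOf_map_cj, Subgroup.card_map_of_injective (MulAut.conj g).injective]

theorem card_map_cj (T : Subgroup G) (g : G) :
    Nat.card ↥(T.map (MulAut.conj g).toMonoidHom) = Nat.card ↥T :=
  Subgroup.card_map_of_injective (MulAut.conj g).injective

theorem map_cj_map_cj_inv (T : Subgroup G) (g : G) :
    (T.map (MulAut.conj g).toMonoidHom).map (MulAut.conj g⁻¹).toMonoidHom = T := by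
  rw [Subgroup.map_map]
  have : (MulAut.conj g⁻¹).toMonoidHom.comp (MulAut.conj g).toMonoidHom = MonoidHom.id G := by
    ext x
    simp [MulAut.conj_apply, mul_assoc]
  rw [this, Subgroup.map_id]

theorem map_cj_inv_map_cj (T : Subgroup G) (g : G) :
    (T.map (MulAut.conj g⁻¹).toMonoidHom).map (MulAut.conj g).toMonoidHom = T := by
  have := map_cj_map_cj_inv T g⁻¹
  rwa [inv_inv] at this

theorem map_cj_eq_self_of_mem {M : Subgroup G} {m : G} (hm : m ∈ M) :
    M.map (MulAut.conj m).toMonoidHom = M := by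
  ext x
  constructor
  · rintro ⟨y, hy, rfl⟩
    simp only [MulEquiv.coe_toMonoidHom, MulAut.conj_apply]
    exact M.mul_mem (M.mul_mem hm hy) (M.inv_mem hm)
  · intro hx
    refine ⟨m⁻¹ * x * m, M.mul_mem (M.mul_mem (M.inv_mem hm) hx) hm, ?_⟩
    simp [MulAut.conj_apply, mul_assoc]

theorem isTwoLocal_map_cj {L : Subgroup G} (hL : IsTwoLocal L) (g : G) :
    IsTwoLocal (L.map (MulAut.conj g).toMonoidHom) := by
  obtain ⟨Q, hQp, hQ1, rfl⟩ := hL
  refine ⟨Q.map (MulAut.conj g).toMonoidHom, hQp.map _, ?_, ?_⟩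
  · intro h
    exact hQ1 ((Subgroup.map_eq_bot_iff_of_injective Q (MulAut.conj g).injective).mp h)
  · exact Subgroup.map_equiv_normalizer_eq Q (MulAut.conj g)

/-! ### (V3c) conjugation invariance of (max)straddling subgroups -/

theorem straddling_map_cj {M T : Subgroup G} (hT : T ∈ straddlingTwoSubgroups M) {m : G}
    (hm : m ∈ M) : T.map (MulAut.conj m).toMonoidHom ∈ straddlingTwoSubgroups M := by
  obtain ⟨hTp, hT1, hTM, L, hL, hTL, hLM⟩ := hT
  refine ⟨hTp.map _, ?_, ?_, L.map (MulAut.conj m).toMonoidHom, isTwoLocal_map_cj hL m,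
    Subgroup.map_mono hTL, ?_⟩
  · intro h
    exact hT1 ((Subgroup.map_eq_bot_iff_of_injective T (MulAut.conj m).injective).mp h)
  · rw [← map_cj_eq_self_of_mem hm]
    exact Subgroup.map_mono hTM
  · intro h
    apply hLM
    have h2 := Subgroup.map_mono (f := (MulAut.conj m⁻¹).toMonoidHom) h
    rwa [map_cj_map_cj_inv, map_cj_eq_self_of_mem (M.inv_mem hm)] at h2

theorem maxStraddling_map_cj [Finite G] {M T : Subgroup G} (hT : T ∈ maxStraddlingTwoSubgroups M)
    {m : G} (hm : m ∈ M) : T.map (MulAut.conj m).toMonoidHom ∈ maxStraddlingTwoSubgroups M := by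
  refine ⟨straddling_map_cj hT.1 hm, ?_⟩
  intro T' hT'
  rw [maxElemAbelianOrder_map_cj, card_thompson_map_cj, card_map_cj]
  exact hT.2 T' hT'

/-! ### (V3b) existence of lexicographically maximal straddling subgroups -/

theorem maxStraddling_nonempty [Finite G] {M : Subgroup G}
    (h : (straddlingTwoSubgroups M).Nonempty) : (maxStraddlingTwoSubgroups M).Nonempty := by
  classical
  have hfin : (straddlingTwoSubgroups M).Finite := Set.toFinite _
  -- stage 1: maximal `a`
  obtain ⟨T₁, hT₁, hmax₁⟩ := Set.exists_max_image _ (fun T : Subgroup G => maxElemAbelianOrder T) hfin h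
  -- stage 2: among those, maximal `|J|`
  have hfin₂ : {T | T ∈ straddlingTwoSubgroups M ∧
      maxElemAbelianOrder T = maxElemAbelianOrder T₁}.Finite := Set.toFinite _
  obtain ⟨T₂, hT₂, hmax₂⟩ := Set.exists_max_image _
    (fun T : Subgroup G => Nat.card ↥(thompsonSubgroupOf 2 T)) hfin₂ ⟨T₁, hT₁, rfl⟩
  -- stage 3: among those, maximal order
  have hfin₃ : {T | T ∈ straddlingTwoSubgroups M ∧
      maxElemAbelianOrder T = maxElemAbelianOrder T₁ ∧
      Nat.card ↥(thompsonSubgroupOf 2 T) = Nat.card ↥(thompsonSubgroupOf 2 T₂)}.Finite :=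
    Set.toFinite _
  obtain ⟨T₃, hT₃, hmax₃⟩ := Set.exists_max_image _
    (fun T : Subgroup G => Nat.card ↥T) hfin₃ ⟨T₂, hT₂.1, hT₂.2, rfl⟩
  refine ⟨T₃, hT₃.1, ?_⟩
  intro T hT
  rw [hT₃.2.1, hT₃.2.2]
  refine ⟨hmax₁ T hT, fun h1 => ⟨hmax₂ T ⟨hT, h1⟩, fun h2 => hmax₃ T ⟨hT, h1, h2⟩⟩⟩

/-! ### (V3a) a straddling subgroup exists -/

/-- A subgroup containing all involutions of `S` contains `J(S)`. -/
theorem thompson_le_of_involutions {S Q : Subgroup G}
    (h : ∀ t ∈ S, orderOf t = 2 → t ∈ Q) : thompsonSubgroupOf 2 S ≤ Q := by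
  have : Fact (Nat.Prime 2) := ⟨Nat.prime_two⟩
  rw [thompsonSubgroupOf_eq, sSup_le_iff]
  intro A hA a ha
  by_cases h1 : a = 1
  · rw [h1]; exact Q.one_mem
  · exact h a (hA.1 ha) (orderOf_eq_prime (hA.2.1.2 a ha) h1)

/-- A strongly embedded subgroup does not contain all involutions of `G`. -/
theorem exists_involution_not_mem_of_stronglyEmbedded [Finite G] {L : Subgroup G}
    (hSE : IsStronglyEmbedded L) : ∃ u : G, orderOf u = 2 ∧ u ∉ L := by
  obtain ⟨t, htL, ht⟩ := Cfsg.Agent.Lib.Helper21.se_exists_involution hSE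
  by_contra hcon
  push Not at hcon
  have hLtop : L = ⊤ := by
    rw [eq_top_iff]
    intro g _
    apply Cfsg.Agent.Lib.Helper4.se_mem_of_conj_mem hSE htL ht (g := g)
    apply hcon
    rw [Cfsg.Agent.Lib.Helper4.orderOf_conj_eq]; exact ht
  exact hSE.1 hLtop

/-- In a strongly embedded subgroup `L` with `O₂(L) ≠ 1`, every involution of `L` lies in
`O₂(L)`. -/
theorem involution_mem_pCoreOf_of_stronglyEmbedded [Finite G] {L : Subgroup G}
    (hSE : IsStronglyEmbedded L) (hQ1 : pCoreOf 2 L ≠ ⊥) :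
    ∀ s ∈ L, orderOf s = 2 → s ∈ pCoreOf 2 L := by
  obtain ⟨u, hu, huL⟩ := exists_involution_not_mem_of_stronglyEmbedded hSE
  obtain ⟨t₀, ht₀Q, ht₀⟩ := Cfsg.Agent.Lib.Helper49.exists_involution_of_ne_bot
    (Cfsg.Agent.Lib.Helper55.JComp.pCoreOf_isPGroup L) hQ1
  have hQL : pCoreOf 2 L ≤ L := by
    unfold pCoreOf; exact Subgroup.map_subtype_le _
  intro s hsL hs
  obtain ⟨d, hd, hds⟩ := Cfsg.Agent.Lib.Helper21.se_conj_in_inter hSE u hu huL t₀ s ht₀
    (hQL ht₀Q) hs hsL
  rw [← hds]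
  have hdN := Cfsg.Agent.Lib.Helper55.JComp.le_normalizer_pCoreOf L hd.1
  exact (Subgroup.mem_normalizer_iff.mp hdN t₀).mp ht₀Q

/-- **(V3a)** Under the standing hypotheses of K-S chapter 12, a 2-local `L ∈ jOvergroups S`
containing `N_G(J(S))` has a straddling 2-subgroup. -/
theorem straddling_nonempty [Finite G] (hL : IsCharacteristicTwoType G)
    (hN : ∀ N : Subgroup G, IsTwoLocal N → Group.IsSolvable ↥N)
    (hZ : ∀ S : Sylow 2 G, Subgroup.centralizer (omegaCenterOf (S : Subgroup G) : Set G) ≤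
      Subgroup.normalizer ((S : Subgroup G) : Set G))
    (hO : pCore 2 G = ⊥) (S : Sylow 2 G) (L : Subgroup G) (hLloc : IsTwoLocal L)
    (hLJ : Subgroup.normalizer (thompsonSubgroupOf 2 (S : Subgroup G) : Set G) ≤ L)
    (hLS : L ∈ jOvergroups (S : Subgroup G)) : (straddlingTwoSubgroups L).Nonempty := by
  by_contra hne
  rw [Set.not_nonempty_iff_eq_empty] at hne
  have hSE : IsStronglyEmbedded L :=
    (Cfsg.Agent.S2947.result hL hN hZ hO S L hLloc hLJ).mpr hne
  obtain ⟨hSyl, hJ, hC⟩ := hLS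
  obtain ⟨t, htL, ht⟩ := Cfsg.Agent.Lib.Helper21.se_exists_involution hSE
  have hQ1 : pCoreOf 2 L ≠ ⊥ := by
    intro h0
    rw [h0] at hC
    have h1 : (⊤ : Subgroup G) ≤ ⊥ := by
      refine le_trans ?_ hC
      intro g _
      rw [Subgroup.mem_centralizer_iff]
      intro x hx
      have hx1 : x = 1 := by simpa using hx
      rw [hx1]; simp
    have ht1 : t ∈ (⊥ : Subgroup G) := h1 (Subgroup.mem_top t)
    rw [Subgroup.mem_bot] at ht1
    rw [ht1, orderOf_one] at ht
    exact absurd ht (by norm_num)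
  apply hJ
  apply thompson_le_of_involutions
  intro s hsS hs
  exact involution_mem_pCoreOf_of_stronglyEmbedded hSE hQ1 s (hSyl.1 hsS) hs

/-! ### Sylow conjugation inside `M` -/

theorem exists_conj_le_of_isSylowTwoIn [Finite G] {S M T : Subgroup G} (hS : IsSylowTwoIn S M)
    (hT : IsPGroup 2 ↥T) (hTM : T ≤ M) :
    ∃ m ∈ M, T.map (MulAut.conj m).toMonoidHom ≤ S := by
  have : Fact (Nat.Prime 2) := ⟨Nat.prime_two⟩
  obtain ⟨P, hP⟩ := Cfsg.Agent.Lib.Helper55.JComp.exists_sylow hS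
  have hT' : IsPGroup 2 ↥(T.subgroupOf M) := hT.comap_subtype
  obtain ⟨Q, hQ⟩ := hT'.exists_le_sylow
  obtain ⟨m, hm⟩ := MulAction.exists_smul_eq (↥M) Q P
  refine ⟨m, m.2, ?_⟩
  rintro _ ⟨t, ht, rfl⟩
  have h1 : (⟨t, hTM ht⟩ : ↥M) ∈ (Q : Subgroup ↥M) := hQ (Subgroup.mem_subgroupOf.mpr ht)
  have h2 : m * ⟨t, hTM ht⟩ * m⁻¹ ∈ (P : Subgroup ↥M) := by
    rw [← hm, Sylow.coe_subgroup_smul]
    have := Subgroup.smul_mem_pointwise_smul (⟨t, hTM ht⟩ : ↥M) (MulAut.conj m)
      (Q : Subgroup ↥M) h1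
    simpa [MulAut.smul_def] using this
  rw [hP, Subgroup.mem_subgroupOf] at h2
  simpa using h2

/-- A maximal straddling subgroup of `M` inside a given Sylow 2-subgroup of `M`. -/
theorem exists_maxStraddling_le [Finite G] {S M : Subgroup G} (hS : IsSylowTwoIn S M)
    (h : (straddlingTwoSubgroups M).Nonempty) : ∃ T ∈ maxStraddlingTwoSubgroups M, T ≤ S := by
  obtain ⟨T, hT⟩ := maxStraddling_nonempty h
  obtain ⟨m, hm, hle⟩ := exists_conj_le_of_isSylowTwoIn hS hT.1.1 hT.1.2.2.1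
  exact ⟨_, maxStraddling_map_cj hT hm, hle⟩

/-- **(V3, combined)** Under the standing hypotheses, a 2-local `L ∈ jOvergroups S` containing
`N_G(J(S))` has a maximal straddling 2-subgroup inside `S`. -/
theorem exists_maxStraddling_le_sylow [Finite G] (hL : IsCharacteristicTwoType G)
    (hN : ∀ N : Subgroup G, IsTwoLocal N → Group.IsSolvable ↥N)
    (hZ : ∀ S : Sylow 2 G, Subgroup.centralizer (omegaCenterOf (S : Subgroup G) : Set G) ≤
      Subgroup.normalizer ((S : Subgroup G) : Set G))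
    (hO : pCore 2 G = ⊥) (S : Sylow 2 G) (L : Subgroup G) (hLloc : IsTwoLocal L)
    (hLJ : Subgroup.normalizer (thompsonSubgroupOf 2 (S : Subgroup G) : Set G) ≤ L)
    (hLS : L ∈ jOvergroups (S : Subgroup G)) :
    ∃ T ∈ maxStraddlingTwoSubgroups L, T ≤ (S : Subgroup G) :=
  exists_maxStraddling_le hLS.1 (straddling_nonempty hL hN hZ hO S L hLloc hLJ hLS)

end Cfsg.Agent.Lib.Helper96.KS12
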